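import Cfsg.Agent.Spor.C3VM.D0

set_option autoImplicit false
set_option maxRecDepth 100000000
set_option Elab.async false

namespace Cfsg.Agent.Spor.C3VM

theorem ok0 : Net.okb 7 n0 = true := by decide +kernel

theorem ok1 : Net.okb 7 n1 = true := by decide +kernel

theorem ok2 : Net.okb 7 n2 = true := by decide +kernel

theorem ok3 : Net.okb 7 n3 = true := by decide +kernel

theorem ok4 : Net.okb 7 n4 = true := by decide +kernel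

theorem ok5 : Net.okb 7 n5 = true := by decide +kernel

theorem ok6 : Net.okb 7 n6 = true := by decide +kernel

theorem ok7 : Net.okb 7 n7 = true := by decide +kernel

theorem rel0 : T.rel 7 [1, 1] 0 7 = true := by decide +kernel

theorem rel1 : T.rel 7 [2, 2] 0 7 = true := by decide +kernel

theorem rel2 : T.rel 7 [3, 3] 0 7 = true := by decide +kernel

theorem rel3 : T.rel 7 [4, 4] 0 7 = true := by decide +kernel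

theorem rel4 : T.rel 7 [5, 3, 4, 3] 0 7 = true := by decide +kernel

theorem rel5 : T.rel 7 [7, 1, 4, 1, 4, 1] 0 7 = true := by decide +kernel

theorem rel6 : T.rel 7 [9, 2, 4, 3, 4, 2] 0 7 = true := by decide +kernel

theorem rel7 : T.rel 7 [11, 2, 4, 2, 4, 2, 3] 0 7 = true := by decide +kernel

theorem rel8 : T.rel 7 [3, 2, 3, 2, 3, 2, 3, 2, 3, 2, 3, 2] 0 7 = true := by decide +kernel

theorem rel9 : T.rel 7 [4, 2, 4, 2, 4, 2, 4, 2, 4, 2, 4, 2] 0 7 = true := by decide +kernel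

theorem rel10 : T.rel 7 [4, 3, 4, 3, 4, 3, 4, 3] 0 7 = true := by decide +kernel

theorem rel11 : T.rel 7 [2, 3, 2, 3, 2, 3, 4, 3, 2, 4, 3, 4, 3, 2, 3, 2, 4, 2, 4] 0 7 = true := by decide +kernel

theorem rel12 : T.rel 7 [2, 3, 2, 3, 4, 2, 3, 2, 4, 2, 3, 2, 3, 4, 2, 3, 2, 4] 0 7 = true := by decide +kernel

theorem rel13 : T.rel 7 [3, 1, 3, 1, 3, 1] 0 7 = true := by decide +kernel

theorem rel14 : T.rel 7 [3, 4, 2, 3, 4, 2, 4, 2, 3, 4, 2, 4, 3, 2, 4, 1, 2, 1] 0 7 = true := by decide +kernel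

theorem rel15 : T.rel 7 [4, 2, 4, 2, 3, 4, 2, 3, 4, 2, 3, 4, 1, 4, 2, 4, 1] 0 7 = true := by decide +kernel

theorem rel16 : T.rel 7 [2, 4, 3, 2, 4, 2, 4, 3, 2, 4, 2, 4, 2, 3, 1, 3, 4, 2, 4, 3, 1] 0 7 = true := by decide +kernel

theorem rel17 : T.rel 7 [2, 1, 2, 1, 2, 1, 2, 1] 0 7 = true := by decide +kernel

theorem rel18 : T.rel 7 [4, 1, 4, 1, 4, 1, 4, 1, 4, 1, 4, 1] 0 7 = true := by decide +kernel

theorem rel19 : T.rel 7 [1, 2, 1, 2, 4, 1, 4, 2, 1, 2, 1, 4, 1, 4] 0 7 = true := by decide +kernel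

theorem rel20 : T.rel 7 [1, 2, 1, 4, 1, 2, 4, 2, 1, 4, 2, 4, 1, 4, 2, 4, 1, 2, 4, 1, 4, 2, 4] 0 7 = true := by decide +kernel

theorem rel21 : T.rel 7 [1, 2, 4, 1, 2, 4, 1, 2, 4, 1, 2, 4, 1, 2, 4, 1, 2, 4] 0 7 = true := by decide +kernel

theorem rel22 : T.rel 7 [1, 3, 4, 1, 2, 3, 2, 4, 3, 4, 2, 3, 2, 3, 4, 2, 4] 0 7 = true := by decide +kernel

theorem rel23 : T.rel 7 [1, 3, 2, 3, 1, 3, 2, 4, 2, 4, 3, 4, 2, 4, 3, 4, 3, 2, 3] 0 7 = true := by decide +kernel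

theorem rel24 : T.rel 7 [1, 2, 4, 2, 4, 1, 4, 2, 4, 2, 4, 2, 4, 3, 2, 4, 2, 4, 3, 2, 4, 2, 4, 2] 0 7 = true := by decide +kernel

theorem rel25 : T.rel 7 [3, 1, 4, 1, 4, 1, 3, 4, 10, 4] 0 7 = true := by decide +kernel

theorem hcov : T.treeCov (ones 72) L 1 = true := by decide +kernel

theorem hg : lall (fun z => band (memL L z) (band (sub (ones 72) (T.let z).cl) (T.closed (ones 72) z))) gs = true := by decide +kernel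

theorem rot1_1 : T.rot 1 [1] (sel (ones 72) ip1 1) = true := by decide +kernel

theorem rot1_1r : band (Rule.ok (2 * 4) EX RL ⟨1 :: [1], [], 18, false⟩) (lall (memL L) [1]) = true := by decide +kernel

theorem rot1_2 : T.rot 1 [3, 1, 3, 1, 3] (sel (ones 72) ip1 2) = true := by decide +kernel

theorem rot1_2r : band (Rule.ok (2 * 4) EX RL ⟨1 :: [3, 1, 3, 1, 3], [], 5, false⟩) (lall (memL L) [3, 1, 3, 1, 3]) = true := by decide +kernel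

theorem rot1_3 : T.rot 1 [4, 1, 8, 1, 4] (sel (ones 72) ip1 3) = true := by decide +kernel

theorem rot1_3r : band (Rule.ok (2 * 4) EX RL ⟨1 :: [4, 1, 8, 1, 4], [], 18, false⟩) (lall (memL L) [4, 1, 8, 1, 4]) = true := by decide +kernel

theorem rot1_4 : T.rot 1 [2, 1, 2, 1, 2, 1, 2] (sel (ones 72) ip1 4) = true := by decide +kernel

theorem rot1_4r : band (Rule.ok (2 * 4) EX RL ⟨1 :: [2, 1, 2, 1, 2, 1, 2], [], 9, false⟩) (lall (memL L) [2, 1, 2, 1, 2, 1, 2]) = true := by decide +kernel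

theorem rot1_5 : T.rot 1 [4, 1, 3, 4, 10, 4, 3, 1, 4] (sel (ones 72) ip1 5) = true := by decide +kernel

theorem rot1_5r : band (Rule.ok (2 * 4) EX RL ⟨1 :: [4, 1, 3, 4, 10, 4, 3, 1, 4], [4, 0, 6], 17, true⟩) (lall (memL L) [4, 1, 3, 4, 10, 4, 3, 1, 4]) = true := by decide +kernel

theorem rot1_6 : T.rot 1 [2, 1, 2, 4, 1, 4, 2, 1, 2, 1, 4, 1, 4] (sel (ones 72) ip1 6) = true := by decide +kernel

theorem rot1_6r : band (Rule.ok (2 * 4) EX RL ⟨1 :: [2, 1, 2, 4, 1, 4, 2, 1, 2, 1, 4, 1, 4], [], 11, true⟩) (lall (memL L) [2, 1, 2, 4, 1, 4, 2, 1, 2, 1, 4, 1, 4]) = true := by decide +kernel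

theorem rot1_7 : T.rot 1 [4, 1, 4, 1, 2, 1, 2, 4, 1, 4, 2, 1, 2] (sel (ones 72) ip1 7) = true := by decide +kernel

theorem rot1_7r : band (Rule.ok (2 * 4) EX RL ⟨1 :: [4, 1, 4, 1, 2, 1, 2, 4, 1, 4, 2, 1, 2], [0], 11, false⟩) (lall (memL L) [4, 1, 4, 1, 2, 1, 2, 4, 1, 4, 2, 1, 2]) = true := by decide +kernel

theorem rot1_8 : T.rot 1 [4, 1, 2, 1, 2, 4, 1, 4, 2, 1, 2, 1, 4] (sel (ones 72) ip1 8) = true := by decide +kernel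

theorem rot1_8r : band (Rule.ok (2 * 4) EX RL ⟨1 :: [4, 1, 2, 1, 2, 4, 1, 4, 2, 1, 2, 1, 4], [6], 11, false⟩) (lall (memL L) [4, 1, 2, 1, 2, 4, 1, 4, 2, 1, 2, 1, 4]) = true := by decide +kernel

theorem rot1_9 : T.rot 1 [4, 2, 4, 1, 4, 2, 4, 2, 3, 4, 2, 3, 4, 2, 3, 4] (sel (ones 72) ip1 9) = true := by decide +kernel

theorem rot1_9r : band (Rule.ok (2 * 4) EX RL ⟨1 :: [4, 2, 4, 1, 4, 2, 4, 2, 3, 4, 2, 3, 4, 2, 3, 4], [0, 6, 2, 6, 0], 7, true⟩) (lall (memL L) [4, 2, 4, 1, 4, 2, 4, 2, 3, 4, 2, 3, 4, 2, 3, 4]) = true := by decide +kernel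

theorem rot1_10 : T.rot 1 [4, 3, 2, 4, 3, 2, 4, 3, 2, 4, 2, 4, 1, 4, 2, 4] (sel (ones 72) ip1 10) = true := by decide +kernel

theorem rot1_10r : band (Rule.ok (2 * 4) EX RL ⟨1 :: [4, 3, 2, 4, 3, 2, 4, 3, 2, 4, 2, 4, 1, 4, 2, 4], [0, 6, 2, 6], 7, false⟩) (lall (memL L) [4, 3, 2, 4, 3, 2, 4, 3, 2, 4, 2, 4, 1, 4, 2, 4]) = true := by decide +kernel

theorem rot1_11 : T.rot 1 [2, 3, 2, 4, 3, 4, 2, 3, 2, 3, 4, 2, 4, 1, 3, 4] (sel (ones 72) ip1 11) = true := by decide +kernel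

theorem rot1_11r : band (Rule.ok (2 * 4) EX RL ⟨1 :: [2, 3, 2, 4, 3, 4, 2, 3, 2, 3, 4, 2, 4, 1, 3, 4], [0, 4, 6], 14, true⟩) (lall (memL L) [2, 3, 2, 4, 3, 4, 2, 3, 2, 3, 4, 2, 4, 1, 3, 4]) = true := by decide +kernel

theorem rot1_12 : T.rot 1 [4, 3, 1, 4, 2, 4, 3, 2, 3, 2, 4, 3, 4, 2, 3, 2] (sel (ones 72) ip1 12) = true := by decide +kernel

theorem rot1_12r : band (Rule.ok (2 * 4) EX RL ⟨1 :: [4, 3, 1, 4, 2, 4, 3, 2, 3, 2, 4, 3, 4, 2, 3, 2], [0, 4, 6, 0], 14, false⟩) (lall (memL L) [4, 3, 1, 4, 2, 4, 3, 2, 3, 2, 4, 3, 4, 2, 3, 2]) = true := by decide +kernel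

theorem rot1_13 : T.rot 1 [2, 1, 3, 4, 2, 3, 4, 2, 4, 2, 3, 4, 2, 4, 3, 2, 4] (sel (ones 72) ip1 13) = true := by decide +kernel

theorem rot1_13r : band (Rule.ok (2 * 4) EX RL ⟨1 :: [2, 1, 3, 4, 2, 3, 4, 2, 4, 2, 3, 4, 2, 4, 3, 2, 4], [0, 2, 0], 6, true⟩) (lall (memL L) [2, 1, 3, 4, 2, 3, 4, 2, 4, 2, 3, 4, 2, 4, 3, 2, 4]) = true := by decide +kernel

theorem rot1_14 : T.rot 1 [3, 4, 2, 3, 4, 2, 4, 2, 3, 4, 2, 4, 3, 2, 4, 1, 2] (sel (ones 72) ip1 14) = true := by decide +kernel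

theorem rot1_14r : band (Rule.ok (2 * 4) EX RL ⟨1 :: [3, 4, 2, 3, 4, 2, 4, 2, 3, 4, 2, 4, 3, 2, 4, 1, 2], [0], 6, true⟩) (lall (memL L) [3, 4, 2, 3, 4, 2, 4, 2, 3, 4, 2, 4, 3, 2, 4, 1, 2]) = true := by decide +kernel

theorem rot1_15 : T.rot 1 [2, 1, 4, 2, 3, 4, 2, 4, 3, 2, 4, 2, 4, 3, 2, 4, 3] (sel (ones 72) ip1 15) = true := by decide +kernel

theorem rot1_15r : band (Rule.ok (2 * 4) EX RL ⟨1 :: [2, 1, 4, 2, 3, 4, 2, 4, 3, 2, 4, 2, 4, 3, 2, 4, 3], [], 6, false⟩) (lall (memL L) [2, 1, 4, 2, 3, 4, 2, 4, 3, 2, 4, 2, 4, 3, 2, 4, 3]) = true := by decide +kernel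

theorem rot1_16 : T.rot 1 [4, 2, 3, 4, 2, 4, 3, 2, 4, 2, 4, 3, 2, 4, 3, 1, 2] (sel (ones 72) ip1 16) = true := by decide +kernel

theorem rot1_16r : band (Rule.ok (2 * 4) EX RL ⟨1 :: [4, 2, 3, 4, 2, 4, 3, 2, 4, 2, 4, 3, 2, 4, 3, 1, 2], [0, 2], 6, false⟩) (lall (memL L) [4, 2, 3, 4, 2, 4, 3, 2, 4, 2, 4, 3, 2, 4, 3, 1, 2]) = true := by decide +kernel

theorem rot1_17 : T.rot 1 [3, 2, 3, 1, 3, 2, 4, 2, 4, 3, 4, 2, 4, 3, 4, 3, 2, 3] (sel (ones 72) ip1 17) = true := by decide +kernel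

theorem rot1_17r : band (Rule.ok (2 * 4) EX RL ⟨1 :: [3, 2, 3, 1, 3, 2, 4, 2, 4, 3, 4, 2, 4, 3, 4, 3, 2, 3], [], 15, true⟩) (lall (memL L) [3, 2, 3, 1, 3, 2, 4, 2, 4, 3, 4, 2, 4, 3, 4, 3, 2, 3]) = true := by decide +kernel

theorem rot1_18 : T.rot 1 [3, 2, 4, 2, 4, 3, 4, 2, 4, 3, 4, 3, 2, 3, 1, 3, 2, 3] (sel (ones 72) ip1 18) = true := by decide +kernel

theorem rot1_18r : band (Rule.ok (2 * 4) EX RL ⟨1 :: [3, 2, 4, 2, 4, 3, 4, 2, 4, 3, 4, 3, 2, 3, 1, 3, 2, 3], [0, 4, 2, 4], 15, true⟩) (lall (memL L) [3, 2, 4, 2, 4, 3, 4, 2, 4, 3, 4, 3, 2, 3, 1, 3, 2, 3]) = true := by decide +kernel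

theorem rot1_19 : T.rot 1 [3, 2, 3, 1, 3, 2, 3, 4, 3, 4, 2, 4, 3, 4, 2, 4, 2, 3] (sel (ones 72) ip1 19) = true := by decide +kernel

theorem rot1_19r : band (Rule.ok (2 * 4) EX RL ⟨1 :: [3, 2, 3, 1, 3, 2, 3, 4, 3, 4, 2, 4, 3, 4, 2, 4, 2, 3], [0, 4, 2, 4, 0], 15, false⟩) (lall (memL L) [3, 2, 3, 1, 3, 2, 3, 4, 3, 4, 2, 4, 3, 4, 2, 4, 2, 3]) = true := by decide +kernel

theorem rot1_20 : T.rot 1 [4, 2, 4, 1, 2, 1, 4, 1, 2, 4, 2, 1, 4, 2, 4, 1, 4, 2, 4, 1, 2, 4] (sel (ones 72) ip1 20) = true := by decide +kernel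

theorem rot1_20r : band (Rule.ok (2 * 4) EX RL ⟨1 :: [4, 2, 4, 1, 2, 1, 4, 1, 2, 4, 2, 1, 4, 2, 4, 1, 4, 2, 4, 1, 2, 4], [6, 2, 6, 0], 12, true⟩) (lall (memL L) [4, 2, 4, 1, 2, 1, 4, 1, 2, 4, 2, 1, 4, 2, 4, 1, 4, 2, 4, 1, 2, 4]) = true := by decide +kernel

theorem rot1_21 : T.rot 1 [4, 2, 1, 4, 2, 4, 1, 4, 2, 4, 1, 2, 4, 2, 1, 4, 1, 2, 1, 4, 2, 4] (sel (ones 72) ip1 21) = true := by decide +kernel

theorem rot1_21r : band (Rule.ok (2 * 4) EX RL ⟨1 :: [4, 2, 1, 4, 2, 4, 1, 4, 2, 4, 1, 2, 4, 2, 1, 4, 1, 2, 1, 4, 2, 4], [6, 2, 6], 12, false⟩) (lall (memL L) [4, 2, 1, 4, 2, 4, 1, 4, 2, 4, 1, 2, 4, 2, 1, 4, 1, 2, 1, 4, 2, 4]) = true := by decide +kernel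

theorem cov1 : T.cover 1 [(sel (ones 72) ip1 1), (sel (ones 72) ip1 2), (sel (ones 72) ip1 3), (sel (ones 72) ip1 4), (sel (ones 72) ip1 5), (sel (ones 72) ip1 6), (sel (ones 72) ip1 7), (sel (ones 72) ip1 8), (sel (ones 72) ip1 9), (sel (ones 72) ip1 10), (sel (ones 72) ip1 11), (sel (ones 72) ip1 12), (sel (ones 72) ip1 13), (sel (ones 72) ip1 14), (sel (ones 72) ip1 15), (sel (ones 72) ip1 16), (sel (ones 72) ip1 17), (sel (ones 72) ip1 18), (sel (ones 72) ip1 19), (sel (ones 72) ip1 20), (sel (ones 72) ip1 21)] = true := by decide +kernel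

theorem tl1 : T.treeLt 7 1 = true := by decide +kernel

theorem rot2_1 : T.rot 2 [2] (sel (ones 72) ip2 1) = true := by decide +kernel

theorem rot2_1r : band (Rule.ok (2 * 4) EX RL ⟨2 :: [2], [], 18, false⟩) (lall (memL L) [2]) = true := by decide +kernel

theorem rot2_2 : T.rot 2 [1, 2, 1, 2, 1, 2, 1] (sel (ones 72) ip2 2) = true := by decide +kernel

theorem rot2_2r : band (Rule.ok (2 * 4) EX RL ⟨2 :: [1, 2, 1, 2, 1, 2, 1], [], 9, true⟩) (lall (memL L) [1, 2, 1, 2, 1, 2, 1]) = true := by decide +kernel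

theorem rot2_3 : T.rot 2 [1, 2, 4, 1, 4, 2, 1, 2, 1, 4, 1, 4, 1] (sel (ones 72) ip2 3) = true := by decide +kernel

theorem rot2_3r : band (Rule.ok (2 * 4) EX RL ⟨2 :: [1, 2, 4, 1, 4, 2, 1, 2, 1, 4, 1, 4, 1], [0], 11, true⟩) (lall (memL L) [1, 2, 4, 1, 4, 2, 1, 2, 1, 4, 1, 4, 1]) = true := by decide +kernel

theorem rot2_4 : T.rot 2 [1, 2, 1, 4, 1, 4, 1, 2, 1, 2, 4, 1, 4] (sel (ones 72) ip2 4) = true := by decide +kernel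

theorem rot2_4r : band (Rule.ok (2 * 4) EX RL ⟨2 :: [1, 2, 1, 4, 1, 4, 1, 2, 1, 2, 4, 1, 4], [0, 2, 0, 2], 11, false⟩) (lall (memL L) [1, 2, 1, 4, 1, 4, 1, 2, 1, 2, 4, 1, 4]) = true := by decide +kernel

theorem rot2_5 : T.rot 2 [3, 4, 1, 4, 2, 4, 1, 4, 2, 4, 2, 3, 4, 2, 3, 4] (sel (ones 72) ip2 5) = true := by decide +kernel

theorem rot2_5r : band (Rule.ok (2 * 4) EX RL ⟨2 :: [3, 4, 1, 4, 2, 4, 1, 4, 2, 4, 2, 3, 4, 2, 3, 4], [0, 6, 2, 6, 0, 6, 4, 2], 7, true⟩) (lall (memL L) [3, 4, 1, 4, 2, 4, 1, 4, 2, 4, 2, 3, 4, 2, 3, 4]) = true := by decide +kernel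

theorem rot2_6 : T.rot 2 [4, 3, 2, 4, 3, 2, 4, 2, 4, 1, 4, 2, 4, 1, 4, 3] (sel (ones 72) ip2 6) = true := by decide +kernel

theorem rot2_6r : band (Rule.ok (2 * 4) EX RL ⟨2 :: [4, 3, 2, 4, 3, 2, 4, 2, 4, 1, 4, 2, 4, 1, 4, 3], [0, 6, 2, 6, 0, 6, 4], 7, false⟩) (lall (memL L) [4, 3, 2, 4, 3, 2, 4, 2, 4, 1, 4, 2, 4, 1, 4, 3]) = true := by decide +kernel

theorem rot2_7 : T.rot 2 [3, 4, 2, 4, 1, 3, 4, 1, 2, 3, 2, 4, 3, 4, 2, 3] (sel (ones 72) ip2 7) = true := by decide +kernel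

theorem rot2_7r : band (Rule.ok (2 * 4) EX RL ⟨2 :: [3, 4, 2, 4, 1, 3, 4, 1, 2, 3, 2, 4, 3, 4, 2, 3], [6, 2, 6, 4, 2], 14, true⟩) (lall (memL L) [3, 4, 2, 4, 1, 3, 4, 1, 2, 3, 2, 4, 3, 4, 2, 3]) = true := by decide +kernel

theorem rot2_8 : T.rot 2 [3, 2, 4, 3, 4, 2, 3, 2, 1, 4, 3, 1, 4, 2, 4, 3] (sel (ones 72) ip2 8) = true := by decide +kernel

theorem rot2_8r : band (Rule.ok (2 * 4) EX RL ⟨2 :: [3, 2, 4, 3, 4, 2, 3, 2, 1, 4, 3, 1, 4, 2, 4, 3], [6, 2, 6, 4], 14, false⟩) (lall (memL L) [3, 2, 4, 3, 4, 2, 3, 2, 1, 4, 3, 1, 4, 2, 4, 3]) = true := by decide +kernel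

theorem rot2_9 : T.rot 2 [1, 3, 4, 2, 3, 4, 2, 4, 2, 3, 4, 2, 4, 3, 2, 4, 1] (sel (ones 72) ip2 9) = true := by decide +kernel

theorem rot2_9r : band (Rule.ok (2 * 4) EX RL ⟨2 :: [1, 3, 4, 2, 3, 4, 2, 4, 2, 3, 4, 2, 4, 3, 2, 4, 1], [0, 2], 6, true⟩) (lall (memL L) [1, 3, 4, 2, 3, 4, 2, 4, 2, 3, 4, 2, 4, 3, 2, 4, 1]) = true := by decide +kernel

theorem rot2_10 : T.rot 2 [1, 4, 2, 3, 4, 2, 4, 3, 2, 4, 2, 4, 3, 2, 4, 3, 1] (sel (ones 72) ip2 10) = true := by decide +kernel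

theorem rot2_10r : band (Rule.ok (2 * 4) EX RL ⟨2 :: [1, 4, 2, 3, 4, 2, 4, 3, 2, 4, 2, 4, 3, 2, 4, 3, 1], [0], 6, false⟩) (lall (memL L) [1, 4, 2, 3, 4, 2, 4, 3, 2, 4, 2, 4, 3, 2, 4, 3, 1]) = true := by decide +kernel

theorem rot2_11 : T.rot 2 [3, 2, 3, 4, 3, 2, 4, 3, 4, 3, 2, 3, 2, 4, 2, 4, 2, 3] (sel (ones 72) ip2 11) = true := by decide +kernel

theorem rot2_11r : band (Rule.ok (2 * 4) EX RL ⟨2 :: [3, 2, 3, 4, 3, 2, 4, 3, 4, 3, 2, 3, 2, 4, 2, 4, 2, 3], [2, 4], 3, true⟩) (lall (memL L) [3, 2, 3, 4, 3, 2, 4, 3, 4, 3, 2, 3, 2, 4, 2, 4, 2, 3]) = true := by decide +kernel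

theorem rot2_12 : T.rot 2 [3, 4, 3, 2, 4, 3, 4, 3, 2, 3, 2, 4, 2, 4, 2, 3, 2, 3] (sel (ones 72) ip2 12) = true := by decide +kernel

theorem rot2_12r : band (Rule.ok (2 * 4) EX RL ⟨2 :: [3, 4, 3, 2, 4, 3, 4, 3, 2, 3, 2, 4, 2, 4, 2, 3, 2, 3], [2, 4, 2, 4], 3, true⟩) (lall (memL L) [3, 4, 3, 2, 4, 3, 4, 3, 2, 3, 2, 4, 2, 4, 2, 3, 2, 3]) = true := by decide +kernel

theorem rot2_13 : T.rot 2 [4, 2, 3, 2, 3, 2, 3, 4, 3, 2, 4, 3, 4, 3, 2, 3, 2, 4] (sel (ones 72) ip2 13) = true := by decide +kernel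

theorem rot2_13r : band (Rule.ok (2 * 4) EX RL ⟨2 :: [4, 2, 3, 2, 3, 2, 3, 4, 3, 2, 4, 3, 4, 3, 2, 3, 2, 4], [6, 2], 3, true⟩) (lall (memL L) [4, 2, 3, 2, 3, 2, 3, 4, 3, 2, 4, 3, 4, 3, 2, 3, 2, 4]) = true := by decide +kernel

theorem rot2_14 : T.rot 2 [3, 2, 3, 2, 4, 2, 4, 2, 3, 2, 3, 4, 3, 4, 2, 3, 4, 3] (sel (ones 72) ip2 14) = true := by decide +kernel

theorem rot2_14r : band (Rule.ok (2 * 4) EX RL ⟨2 :: [3, 2, 3, 2, 4, 2, 4, 2, 3, 2, 3, 4, 3, 4, 2, 3, 4, 3], [2, 4, 2, 4, 2], 3, false⟩) (lall (memL L) [3, 2, 3, 2, 4, 2, 4, 2, 3, 2, 3, 4, 3, 4, 2, 3, 4, 3]) = true := by decide +kernel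

theorem rot2_15 : T.rot 2 [3, 1, 3, 2, 4, 2, 4, 3, 4, 2, 4, 3, 4, 3, 2, 3, 1, 3] (sel (ones 72) ip2 15) = true := by decide +kernel

theorem rot2_15r : band (Rule.ok (2 * 4) EX RL ⟨2 :: [3, 1, 3, 2, 4, 2, 4, 3, 4, 2, 4, 3, 4, 3, 2, 3, 1, 3], [0, 4], 15, true⟩) (lall (memL L) [3, 1, 3, 2, 4, 2, 4, 3, 4, 2, 4, 3, 4, 3, 2, 3, 1, 3]) = true := by decide +kernel

theorem rot2_16 : T.rot 2 [4, 3, 2, 4, 2, 4, 3, 2, 4, 2, 4, 2, 3, 1, 3, 4, 2, 4, 3, 1] (sel (ones 72) ip2 16) = true := by decide +kernel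

theorem rot2_16r : band (Rule.ok (2 * 4) EX RL ⟨2 :: [4, 3, 2, 4, 2, 4, 3, 2, 4, 2, 4, 2, 3, 1, 3, 4, 2, 4, 3, 1], [], 8, true⟩) (lall (memL L) [4, 3, 2, 4, 2, 4, 3, 2, 4, 2, 4, 2, 3, 1, 3, 4, 2, 4, 3, 1]) = true := by decide +kernel

theorem rot2_17 : T.rot 2 [4, 3, 1, 2, 4, 3, 2, 4, 2, 4, 3, 2, 4, 2, 4, 2, 3, 1, 3, 4] (sel (ones 72) ip2 17) = true := by decide +kernel

theorem rot2_17r : band (Rule.ok (2 * 4) EX RL ⟨2 :: [4, 3, 1, 2, 4, 3, 2, 4, 2, 4, 3, 2, 4, 2, 4, 2, 3, 1, 3, 4], [0, 4, 6, 2], 8, true⟩) (lall (memL L) [4, 3, 1, 2, 4, 3, 2, 4, 2, 4, 3, 2, 4, 2, 4, 2, 3, 1, 3, 4]) = true := by decide +kernel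

theorem rot2_18 : T.rot 2 [1, 3, 4, 2, 4, 3, 1, 3, 2, 4, 2, 4, 2, 3, 4, 2, 4, 2, 3, 4] (sel (ones 72) ip2 18) = true := by decide +kernel

theorem rot2_18r : band (Rule.ok (2 * 4) EX RL ⟨2 :: [1, 3, 4, 2, 4, 3, 1, 3, 2, 4, 2, 4, 2, 3, 4, 2, 4, 2, 3, 4], [2], 8, false⟩) (lall (memL L) [1, 3, 4, 2, 4, 3, 1, 3, 2, 4, 2, 4, 2, 3, 4, 2, 4, 2, 3, 4]) = true := by decide +kernel

theorem rot2_19 : T.rot 2 [4, 1, 2, 1, 4, 1, 2, 4, 2, 1, 4, 2, 4, 1, 4, 2, 4, 1, 2, 4, 1, 4] (sel (ones 72) ip2 19) = true := by decide +kernel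

theorem rot2_19r : band (Rule.ok (2 * 4) EX RL ⟨2 :: [4, 1, 2, 1, 4, 1, 2, 4, 2, 1, 4, 2, 4, 1, 4, 2, 4, 1, 2, 4, 1, 4], [6, 2], 12, true⟩) (lall (memL L) [4, 1, 2, 1, 4, 1, 2, 4, 2, 1, 4, 2, 4, 1, 4, 2, 4, 1, 2, 4, 1, 4]) = true := by decide +kernel

theorem rot2_20 : T.rot 2 [4, 2, 4, 1, 4, 2, 4, 2, 4, 2, 4, 3, 2, 4, 2, 4, 3, 2, 4, 2, 4, 2, 1] (sel (ones 72) ip2 20) = true := by decide +kernel

theorem rot2_20r : band (Rule.ok (2 * 4) EX RL ⟨2 :: [4, 2, 4, 1, 4, 2, 4, 2, 4, 2, 4, 3, 2, 4, 2, 4, 3, 2, 4, 2, 4, 2, 1], [0], 16, true⟩) (lall (memL L) [4, 2, 4, 1, 4, 2, 4, 2, 4, 2, 4, 3, 2, 4, 2, 4, 3, 2, 4, 2, 4, 2, 1]) = true := by decide +kernel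

theorem rot2_21 : T.rot 2 [4, 1, 4, 2, 4, 2, 4, 2, 4, 3, 2, 4, 2, 4, 3, 2, 4, 2, 4, 2, 1, 2, 4] (sel (ones 72) ip2 21) = true := by decide +kernel

theorem rot2_21r : band (Rule.ok (2 * 4) EX RL ⟨2 :: [4, 1, 4, 2, 4, 2, 4, 2, 4, 3, 2, 4, 2, 4, 3, 2, 4, 2, 4, 2, 1, 2, 4], [0, 2, 6], 16, true⟩) (lall (memL L) [4, 1, 4, 2, 4, 2, 4, 2, 4, 3, 2, 4, 2, 4, 3, 2, 4, 2, 4, 2, 1, 2, 4]) = true := by decide +kernel

theorem rot2_22 : T.rot 2 [4, 3, 2, 4, 2, 4, 3, 2, 4, 2, 4, 2, 1, 2, 4, 2, 4, 1, 4, 2, 4, 2, 4] (sel (ones 72) ip2 22) = true := by decide +kernel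

theorem rot2_22r : band (Rule.ok (2 * 4) EX RL ⟨2 :: [4, 3, 2, 4, 2, 4, 3, 2, 4, 2, 4, 2, 1, 2, 4, 2, 4, 1, 4, 2, 4, 2, 4], [0, 2, 6, 2, 6, 0, 6, 2, 6, 2, 6], 16, true⟩) (lall (memL L) [4, 3, 2, 4, 2, 4, 3, 2, 4, 2, 4, 2, 1, 2, 4, 2, 4, 1, 4, 2, 4, 2, 4]) = true := by decide +kernel

theorem rot2_23 : T.rot 2 [4, 2, 4, 2, 4, 1, 4, 2, 4, 2, 1, 2, 4, 2, 4, 2, 3, 4, 2, 4, 2, 3, 4] (sel (ones 72) ip2 23) = true := by decide +kernel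

theorem rot2_23r : band (Rule.ok (2 * 4) EX RL ⟨2 :: [4, 2, 4, 2, 4, 1, 4, 2, 4, 2, 1, 2, 4, 2, 4, 2, 3, 4, 2, 4, 2, 3, 4], [0, 2, 6, 2, 6, 0, 6, 2, 6, 2, 6, 2], 16, false⟩) (lall (memL L) [4, 2, 4, 2, 4, 1, 4, 2, 4, 2, 1, 2, 4, 2, 4, 2, 3, 4, 2, 4, 2, 3, 4]) = true := by decide +kernel

theorem rot2_24 : T.rot 2 [4, 2, 1, 2, 4, 2, 4, 2, 3, 4, 2, 4, 2, 3, 4, 2, 4, 2, 4, 2, 4, 1, 4] (sel (ones 72) ip2 24) = true := by decide +kernel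

theorem rot2_24r : band (Rule.ok (2 * 4) EX RL ⟨2 :: [4, 2, 1, 2, 4, 2, 4, 2, 3, 4, 2, 4, 2, 3, 4, 2, 4, 2, 4, 2, 4, 1, 4], [0, 2, 6, 2], 16, false⟩) (lall (memL L) [4, 2, 1, 2, 4, 2, 4, 2, 3, 4, 2, 4, 2, 3, 4, 2, 4, 2, 4, 2, 4, 1, 4]) = true := by decide +kernel

theorem rot2_25 : T.rot 2 [1, 2, 4, 2, 4, 2, 3, 4, 2, 4, 2, 3, 4, 2, 4, 2, 4, 2, 4, 1, 4, 2, 4] (sel (ones 72) ip2 25) = true := by decide +kernel

theorem rot2_25r : band (Rule.ok (2 * 4) EX RL ⟨2 :: [1, 2, 4, 2, 4, 2, 3, 4, 2, 4, 2, 3, 4, 2, 4, 2, 4, 2, 4, 1, 4, 2, 4], [0, 2], 16, false⟩) (lall (memL L) [1, 2, 4, 2, 4, 2, 3, 4, 2, 4, 2, 3, 4, 2, 4, 2, 4, 2, 4, 1, 4, 2, 4]) = true := by decide +kernel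

theorem cov2 : T.cover 2 [(sel (ones 72) ip2 1), (sel (ones 72) ip2 2), (sel (ones 72) ip2 3), (sel (ones 72) ip2 4), (sel (ones 72) ip2 5), (sel (ones 72) ip2 6), (sel (ones 72) ip2 7), (sel (ones 72) ip2 8), (sel (ones 72) ip2 9), (sel (ones 72) ip2 10), (sel (ones 72) ip2 11), (sel (ones 72) ip2 12), (sel (ones 72) ip2 13), (sel (ones 72) ip2 14), (sel (ones 72) ip2 15), (sel (ones 72) ip2 16), (sel (ones 72) ip2 17), (sel (ones 72) ip2 18), (sel (ones 72) ip2 19), (sel (ones 72) ip2 20), (sel (ones 72) ip2 21), (sel (ones 72) ip2 22), (sel (ones 72) ip2 23), (sel (ones 72) ip2 24), (sel (ones 72) ip2 25)] = true := by decide +kernel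

theorem tl2 : T.treeLt 7 2 = true := by decide +kernel

theorem rot3_1 : T.rot 3 [3] (sel (ones 72) ip3 1) = true := by decide +kernel

theorem rot3_1r : band (Rule.ok (2 * 4) EX RL ⟨3 :: [3], [], 18, false⟩) (lall (memL L) [3]) = true := by decide +kernel

theorem rot3_2 : T.rot 3 [1, 3, 1, 3, 1] (sel (ones 72) ip3 2) = true := by decide +kernel

theorem rot3_2r : band (Rule.ok (2 * 4) EX RL ⟨3 :: [1, 3, 1, 3, 1], [], 5, true⟩) (lall (memL L) [1, 3, 1, 3, 1]) = true := by decide +kernel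

theorem rot3_3 : T.rot 3 [4, 2, 10, 2, 4] (sel (ones 72) ip3 3) = true := by decide +kernel

theorem rot3_3r : band (Rule.ok (2 * 4) EX RL ⟨3 :: [4, 2, 10, 2, 4], [], 18, false⟩) (lall (memL L) [4, 2, 10, 2, 4]) = true := by decide +kernel

theorem rot3_4 : T.rot 3 [4, 3, 4, 3, 4, 3, 4] (sel (ones 72) ip3 4) = true := by decide +kernel

theorem rot3_4r : band (Rule.ok (2 * 4) EX RL ⟨3 :: [4, 3, 4, 3, 4, 3, 4], [], 2, false⟩) (lall (memL L) [4, 3, 4, 3, 4, 3, 4]) = true := by decide +kernel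

theorem rot3_5 : T.rot 3 [2, 3, 2, 3, 2, 3, 2, 3, 2, 3, 2] (sel (ones 72) ip3 5) = true := by decide +kernel

theorem rot3_5r : band (Rule.ok (2 * 4) EX RL ⟨3 :: [2, 3, 2, 3, 2, 3, 2, 3, 2, 3, 2], [], 0, true⟩) (lall (memL L) [2, 3, 2, 3, 2, 3, 2, 3, 2, 3, 2]) = true := by decide +kernel

theorem rot3_6 : T.rot 3 [4, 2, 3, 4, 2, 3, 4, 1, 4, 2, 4, 1, 4, 2, 4, 2] (sel (ones 72) ip3 6) = true := by decide +kernel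

theorem rot3_6r : band (Rule.ok (2 * 4) EX RL ⟨3 :: [4, 2, 3, 4, 2, 3, 4, 1, 4, 2, 4, 1, 4, 2, 4, 2], [6, 2, 6, 2], 7, true⟩) (lall (memL L) [4, 2, 3, 4, 2, 3, 4, 1, 4, 2, 4, 1, 4, 2, 4, 2]) = true := by decide +kernel

theorem rot3_7 : T.rot 3 [4, 1, 4, 2, 4, 1, 4, 2, 4, 2, 3, 4, 2, 3, 4, 2] (sel (ones 72) ip3 7) = true := by decide +kernel

theorem rot3_7r : band (Rule.ok (2 * 4) EX RL ⟨3 :: [4, 1, 4, 2, 4, 1, 4, 2, 4, 2, 3, 4, 2, 3, 4, 2], [0, 6, 2, 6, 0, 6, 4], 7, true⟩) (lall (memL L) [4, 1, 4, 2, 4, 1, 4, 2, 4, 2, 3, 4, 2, 3, 4, 2]) = true := by decide +kernel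

theorem rot3_8 : T.rot 3 [2, 4, 3, 2, 4, 3, 2, 4, 2, 4, 1, 4, 2, 4, 1, 4] (sel (ones 72) ip3 8) = true := by decide +kernel

theorem rot3_8r : band (Rule.ok (2 * 4) EX RL ⟨3 :: [2, 4, 3, 2, 4, 3, 2, 4, 2, 4, 1, 4, 2, 4, 1, 4], [0, 6, 2, 6, 0, 6], 7, false⟩) (lall (memL L) [2, 4, 3, 2, 4, 3, 2, 4, 2, 4, 1, 4, 2, 4, 1, 4]) = true := by decide +kernel

theorem rot3_9 : T.rot 3 [2, 4, 2, 4, 1, 4, 2, 4, 1, 4, 3, 2, 4, 3, 2, 4] (sel (ones 72) ip3 9) = true := by decide +kernel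

theorem rot3_9r : band (Rule.ok (2 * 4) EX RL ⟨3 :: [2, 4, 2, 4, 1, 4, 2, 4, 1, 4, 3, 2, 4, 3, 2, 4], [6, 2, 6, 2, 4], 7, false⟩) (lall (memL L) [2, 4, 2, 4, 1, 4, 2, 4, 1, 4, 3, 2, 4, 3, 2, 4]) = true := by decide +kernel

theorem rot3_10 : T.rot 3 [4, 1, 2, 3, 2, 4, 3, 4, 2, 3, 2, 3, 4, 2, 4, 1] (sel (ones 72) ip3 10) = true := by decide +kernel

theorem rot3_10r : band (Rule.ok (2 * 4) EX RL ⟨3 :: [4, 1, 2, 3, 2, 4, 3, 4, 2, 3, 2, 3, 4, 2, 4, 1], [0], 14, true⟩) (lall (memL L) [4, 1, 2, 3, 2, 4, 3, 4, 2, 3, 2, 3, 4, 2, 4, 1]) = true := by decide +kernel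

theorem rot3_11 : T.rot 3 [2, 4, 3, 4, 2, 3, 2, 3, 4, 2, 4, 1, 3, 4, 1, 2] (sel (ones 72) ip3 11) = true := by decide +kernel

theorem rot3_11r : band (Rule.ok (2 * 4) EX RL ⟨3 :: [2, 4, 3, 4, 2, 3, 2, 3, 4, 2, 4, 1, 3, 4, 1, 2], [0, 4, 6, 0, 2], 14, true⟩) (lall (memL L) [2, 4, 3, 4, 2, 3, 2, 3, 4, 2, 4, 1, 3, 4, 1, 2]) = true := by decide +kernel

theorem rot3_12 : T.rot 3 [2, 3, 2, 4, 3, 4, 2, 3, 2, 1, 4, 3, 1, 4, 2, 4] (sel (ones 72) ip3 12) = true := by decide +kernel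

theorem rot3_12r : band (Rule.ok (2 * 4) EX RL ⟨3 :: [2, 3, 2, 4, 3, 4, 2, 3, 2, 1, 4, 3, 1, 4, 2, 4], [6, 2, 6], 14, false⟩) (lall (memL L) [2, 3, 2, 4, 3, 4, 2, 3, 2, 1, 4, 3, 1, 4, 2, 4]) = true := by decide +kernel

theorem rot3_13 : T.rot 3 [2, 1, 4, 3, 1, 4, 2, 4, 3, 2, 3, 2, 4, 3, 4, 2] (sel (ones 72) ip3 13) = true := by decide +kernel

theorem rot3_13r : band (Rule.ok (2 * 4) EX RL ⟨3 :: [2, 1, 4, 3, 1, 4, 2, 4, 3, 2, 3, 2, 4, 3, 4, 2], [0, 4, 6, 0, 2, 4], 14, false⟩) (lall (memL L) [2, 1, 4, 3, 1, 4, 2, 4, 3, 2, 3, 2, 4, 3, 4, 2]) = true := by decide +kernel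

theorem rot3_14 : T.rot 3 [1, 4, 2, 4, 3, 2, 3, 2, 4, 3, 4, 2, 3, 2, 1, 4] (sel (ones 72) ip3 14) = true := by decide +kernel

theorem rot3_14r : band (Rule.ok (2 * 4) EX RL ⟨3 :: [1, 4, 2, 4, 3, 2, 3, 2, 4, 3, 4, 2, 3, 2, 1, 4], [0, 4], 14, false⟩) (lall (memL L) [1, 4, 2, 4, 3, 2, 3, 2, 4, 3, 4, 2, 3, 2, 1, 4]) = true := by decide +kernel

theorem rot3_15 : T.rot 3 [2, 4, 2, 3, 2, 3, 4, 2, 3, 2, 4, 2, 3, 2, 3, 4, 2] (sel (ones 72) ip3 15) = true := by decide +kernel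

theorem rot3_15r : band (Rule.ok (2 * 4) EX RL ⟨3 :: [2, 4, 2, 3, 2, 3, 4, 2, 3, 2, 4, 2, 3, 2, 3, 4, 2], [6, 2, 4], 4, true⟩) (lall (memL L) [2, 4, 2, 3, 2, 3, 4, 2, 3, 2, 4, 2, 3, 2, 3, 4, 2]) = true := by decide +kernel

theorem rot3_16 : T.rot 3 [4, 2, 3, 4, 2, 4, 2, 3, 4, 2, 4, 3, 2, 4, 1, 2, 1] (sel (ones 72) ip3 16) = true := by decide +kernel

theorem rot3_16r : band (Rule.ok (2 * 4) EX RL ⟨3 :: [4, 2, 3, 4, 2, 4, 2, 3, 4, 2, 4, 3, 2, 4, 1, 2, 1], [], 6, true⟩) (lall (memL L) [4, 2, 3, 4, 2, 4, 2, 3, 4, 2, 4, 3, 2, 4, 1, 2, 1]) = true := by decide +kernel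

theorem rot3_17 : T.rot 3 [1, 2, 1, 4, 2, 3, 4, 2, 4, 3, 2, 4, 2, 4, 3, 2, 4] (sel (ones 72) ip3 17) = true := by decide +kernel

theorem rot3_17r : band (Rule.ok (2 * 4) EX RL ⟨3 :: [1, 2, 1, 4, 2, 3, 4, 2, 4, 3, 2, 4, 2, 4, 3, 2, 4], [4], 6, false⟩) (lall (memL L) [1, 2, 1, 4, 2, 3, 4, 2, 4, 3, 2, 4, 2, 4, 3, 2, 4]) = true := by decide +kernel

theorem rot3_18 : T.rot 3 [4, 3, 2, 3, 2, 4, 2, 4, 2, 3, 2, 3, 2, 3, 4, 3, 2, 4] (sel (ones 72) ip3 18) = true := by decide +kernel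

theorem rot3_18r : band (Rule.ok (2 * 4) EX RL ⟨3 :: [4, 3, 2, 3, 2, 4, 2, 4, 2, 3, 2, 3, 2, 3, 4, 3, 2, 4], [6, 2, 6, 2, 4, 2, 4, 6, 4], 3, true⟩) (lall (memL L) [4, 3, 2, 3, 2, 4, 2, 4, 2, 3, 2, 3, 2, 3, 4, 3, 2, 4]) = true := by decide +kernel

theorem rot3_19 : T.rot 3 [4, 2, 3, 4, 3, 2, 3, 2, 3, 2, 4, 2, 4, 2, 3, 2, 3, 4] (sel (ones 72) ip3 19) = true := by decide +kernel

theorem rot3_19r : band (Rule.ok (2 * 4) EX RL ⟨3 :: [4, 2, 3, 4, 3, 2, 3, 2, 3, 2, 4, 2, 4, 2, 3, 2, 3, 4], [6, 2, 6, 2, 4, 2, 4, 6], 3, false⟩) (lall (memL L) [4, 2, 3, 4, 3, 2, 3, 2, 3, 2, 4, 2, 4, 2, 3, 2, 3, 4]) = true := by decide +kernel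

theorem rot3_20 : T.rot 3 [2, 4, 2, 4, 2, 3, 2, 3, 4, 3, 4, 2, 3, 4, 3, 2, 3, 2] (sel (ones 72) ip3 20) = true := by decide +kernel

theorem rot3_20r : band (Rule.ok (2 * 4) EX RL ⟨3 :: [2, 4, 2, 4, 2, 3, 2, 3, 4, 3, 4, 2, 3, 4, 3, 2, 3, 2], [2, 4], 3, false⟩) (lall (memL L) [2, 4, 2, 4, 2, 3, 2, 3, 4, 3, 4, 2, 3, 4, 3, 2, 3, 2]) = true := by decide +kernel

theorem rot3_21 : T.rot 3 [2, 3, 1, 3, 2, 4, 2, 4, 3, 4, 2, 4, 3, 4, 3, 2, 3, 1] (sel (ones 72) ip3 21) = true := by decide +kernel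

theorem rot3_21r : band (Rule.ok (2 * 4) EX RL ⟨3 :: [2, 3, 1, 3, 2, 4, 2, 4, 3, 4, 2, 4, 3, 4, 3, 2, 3, 1], [0], 15, true⟩) (lall (memL L) [2, 3, 1, 3, 2, 4, 2, 4, 3, 4, 2, 4, 3, 4, 3, 2, 3, 1]) = true := by decide +kernel

theorem rot3_22 : T.rot 3 [1, 3, 2, 4, 2, 4, 3, 4, 2, 4, 3, 4, 3, 2, 3, 1, 3, 2] (sel (ones 72) ip3 22) = true := by decide +kernel

theorem rot3_22r : band (Rule.ok (2 * 4) EX RL ⟨3 :: [1, 3, 2, 4, 2, 4, 3, 4, 2, 4, 3, 4, 3, 2, 3, 1, 3, 2], [0, 4, 2], 15, true⟩) (lall (memL L) [1, 3, 2, 4, 2, 4, 3, 4, 2, 4, 3, 4, 3, 2, 3, 1, 3, 2]) = true := by decide +kernel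

theorem rot3_23 : T.rot 3 [2, 4, 2, 4, 3, 4, 2, 4, 3, 4, 3, 2, 3, 1, 3, 2, 3, 1] (sel (ones 72) ip3 23) = true := by decide +kernel

theorem rot3_23r : band (Rule.ok (2 * 4) EX RL ⟨3 :: [2, 4, 2, 4, 3, 4, 2, 4, 3, 4, 3, 2, 3, 1, 3, 2, 3, 1], [0, 4, 2, 4, 0], 15, true⟩) (lall (memL L) [2, 4, 2, 4, 3, 4, 2, 4, 3, 4, 3, 2, 3, 1, 3, 2, 3, 1]) = true := by decide +kernel

theorem rot3_24 : T.rot 3 [1, 3, 2, 3, 1, 3, 2, 3, 4, 3, 4, 2, 4, 3, 4, 2, 4, 2] (sel (ones 72) ip3 24) = true := by decide +kernel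

theorem rot3_24r : band (Rule.ok (2 * 4) EX RL ⟨3 :: [1, 3, 2, 3, 1, 3, 2, 3, 4, 3, 4, 2, 4, 3, 4, 2, 4, 2], [0, 4, 2, 4, 0, 4], 15, false⟩) (lall (memL L) [1, 3, 2, 3, 1, 3, 2, 3, 4, 3, 4, 2, 4, 3, 4, 2, 4, 2]) = true := by decide +kernel

theorem rot3_25 : T.rot 3 [1, 3, 2, 3, 4, 3, 4, 2, 4, 3, 4, 2, 4, 2, 3, 1, 3, 2] (sel (ones 72) ip3 25) = true := by decide +kernel

theorem rot3_25r : band (Rule.ok (2 * 4) EX RL ⟨3 :: [1, 3, 2, 3, 4, 3, 4, 2, 4, 3, 4, 2, 4, 2, 3, 1, 3, 2], [0, 4], 15, false⟩) (lall (memL L) [1, 3, 2, 3, 4, 3, 4, 2, 4, 3, 4, 2, 4, 2, 3, 1, 3, 2]) = true := by decide +kernel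

theorem rot3_26 : T.rot 3 [1, 2, 4, 3, 2, 4, 2, 4, 3, 2, 4, 2, 4, 2, 3, 1, 3, 4, 2, 4] (sel (ones 72) ip3 26) = true := by decide +kernel

theorem rot3_26r : band (Rule.ok (2 * 4) EX RL ⟨3 :: [1, 2, 4, 3, 2, 4, 2, 4, 3, 2, 4, 2, 4, 2, 3, 1, 3, 4, 2, 4], [0, 4], 8, true⟩) (lall (memL L) [1, 2, 4, 3, 2, 4, 2, 4, 3, 2, 4, 2, 4, 2, 3, 1, 3, 4, 2, 4]) = true := by decide +kernel

theorem rot3_27 : T.rot 3 [4, 2, 4, 3, 1, 3, 2, 4, 2, 4, 2, 3, 4, 2, 4, 2, 3, 4, 2, 1] (sel (ones 72) ip3 27) = true := by decide +kernel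

theorem rot3_27r : band (Rule.ok (2 * 4) EX RL ⟨3 :: [4, 2, 4, 3, 1, 3, 2, 4, 2, 4, 2, 3, 4, 2, 4, 2, 3, 4, 2, 1], [0], 8, false⟩) (lall (memL L) [4, 2, 4, 3, 1, 3, 2, 4, 2, 4, 2, 3, 4, 2, 4, 2, 3, 4, 2, 1]) = true := by decide +kernel

theorem cov3 : T.cover 3 [(sel (ones 72) ip3 1), (sel (ones 72) ip3 2), (sel (ones 72) ip3 3), (sel (ones 72) ip3 4), (sel (ones 72) ip3 5), (sel (ones 72) ip3 6), (sel (ones 72) ip3 7), (sel (ones 72) ip3 8), (sel (ones 72) ip3 9), (sel (ones 72) ip3 10), (sel (ones 72) ip3 11), (sel (ones 72) ip3 12), (sel (ones 72) ip3 13), (sel (ones 72) ip3 14), (sel (ones 72) ip3 15), (sel (ones 72) ip3 16), (sel (ones 72) ip3 17), (sel (ones 72) ip3 18), (sel (ones 72) ip3 19), (sel (ones 72) ip3 20), (sel (ones 72) ip3 21), (sel (ones 72) ip3 22), (sel (ones 72) ip3 23), (sel (ones 72) ip3 24),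 (sel (ones 72) ip3 25), (sel (ones 72) ip3 26), (sel (ones 72) ip3 27)] = true := by decide +kernel

theorem tl3 : T.treeLt 7 3 = true := by decide +kernel

theorem rot4_1 : T.rot 4 [4] (sel (ones 72) ip4 1) = true := by decide +kernel

theorem rot4_1r : band (Rule.ok (2 * 4) EX RL ⟨4 :: [4], [], 18, false⟩) (lall (memL L) [4]) = true := by decide +kernel

theorem rot4_2 : T.rot 4 [3, 6, 3] (sel (ones 72) ip4 2) = true := by decide +kernel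

theorem rot4_2r : band (Rule.ok (2 * 4) EX RL ⟨4 :: [3, 6, 3], [], 18, false⟩) (lall (memL L) [3, 6, 3]) = true := by decide +kernel

theorem rot4_3 : T.rot 4 [2, 4, 2, 12, 3, 2] (sel (ones 72) ip4 3) = true := by decide +kernel

theorem rot4_3r : band (Rule.ok (2 * 4) EX RL ⟨4 :: [2, 4, 2, 12, 3, 2], [], 18, false⟩) (lall (memL L) [2, 4, 2, 12, 3, 2]) = true := by decide +kernel

theorem rot4_4 : T.rot 4 [2, 3, 11, 2, 4, 2] (sel (ones 72) ip4 4) = true := by decide +kernel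

theorem rot4_4r : band (Rule.ok (2 * 4) EX RL ⟨4 :: [2, 3, 11, 2, 4, 2], [], 18, false⟩) (lall (memL L) [2, 3, 11, 2, 4, 2]) = true := by decide +kernel

theorem rot4_5 : T.rot 4 [3, 4, 3, 4, 3, 4, 3] (sel (ones 72) ip4 5) = true := by decide +kernel

theorem rot4_5r : band (Rule.ok (2 * 4) EX RL ⟨4 :: [3, 4, 3, 4, 3, 4, 3], [], 2, true⟩) (lall (memL L) [3, 4, 3, 4, 3, 4, 3]) = true := by decide +kernel

theorem rot4_6 : T.rot 4 [1, 3, 4, 10, 4, 3, 1, 4, 1] (sel (ones 72) ip4 6) = true := by decide +kernel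

theorem rot4_6r : band (Rule.ok (2 * 4) EX RL ⟨4 :: [1, 3, 4, 10, 4, 3, 1, 4, 1], [4, 0, 6], 17, false⟩) (lall (memL L) [1, 3, 4, 10, 4, 3, 1, 4, 1]) = true := by decide +kernel

theorem rot4_7 : T.rot 4 [10, 4, 3, 1, 4, 1, 4, 1, 3] (sel (ones 72) ip4 7) = true := by decide +kernel

theorem rot4_7r : band (Rule.ok (2 * 4) EX RL ⟨4 :: [10, 4, 3, 1, 4, 1, 4, 1, 3], [], 17, false⟩) (lall (memL L) [10, 4, 3, 1, 4, 1, 4, 1, 3]) = true := by decide +kernel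

theorem rot4_8 : T.rot 4 [3, 1, 4, 1, 4, 1, 3, 4, 10] (sel (ones 72) ip4 8) = true := by decide +kernel

theorem rot4_8r : band (Rule.ok (2 * 4) EX RL ⟨4 :: [3, 1, 4, 1, 4, 1, 3, 4, 10], [6], 17, true⟩) (lall (memL L) [3, 1, 4, 1, 4, 1, 3, 4, 10]) = true := by decide +kernel

theorem rot4_9 : T.rot 4 [1, 4, 1, 4, 1, 4, 1, 4, 1, 4, 1] (sel (ones 72) ip4 9) = true := by decide +kernel

theorem rot4_9r : band (Rule.ok (2 * 4) EX RL ⟨4 :: [1, 4, 1, 4, 1, 4, 1, 4, 1, 4, 1], [], 10, true⟩) (lall (memL L) [1, 4, 1, 4, 1, 4, 1, 4, 1, 4, 1]) = true := by decide +kernel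

theorem rot4_10 : T.rot 4 [1, 4, 2, 1, 2, 1, 4, 1, 4, 1, 2, 1, 2] (sel (ones 72) ip4 10) = true := by decide +kernel

theorem rot4_10r : band (Rule.ok (2 * 4) EX RL ⟨4 :: [1, 4, 2, 1, 2, 1, 4, 1, 4, 1, 2, 1, 2], [0, 2, 0, 2], 11, true⟩) (lall (memL L) [1, 4, 2, 1, 2, 1, 4, 1, 4, 1, 2, 1, 2]) = true := by decide +kernel

theorem rot4_11 : T.rot 4 [2, 1, 2, 1, 4, 1, 4, 1, 2, 1, 2, 4, 1] (sel (ones 72) ip4 11) = true := by decide +kernel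

theorem rot4_11r : band (Rule.ok (2 * 4) EX RL ⟨4 :: [2, 1, 2, 1, 4, 1, 4, 1, 2, 1, 2, 4, 1], [0, 2, 0, 2, 6], 11, false⟩) (lall (memL L) [2, 1, 2, 1, 4, 1, 4, 1, 2, 1, 2, 4, 1]) = true := by decide +kernel

theorem rot4_12 : T.rot 4 [1, 4, 1, 2, 1, 2, 4, 1, 4, 2, 1, 2, 1] (sel (ones 72) ip4 12) = true := by decide +kernel

theorem rot4_12r : band (Rule.ok (2 * 4) EX RL ⟨4 :: [1, 4, 1, 2, 1, 2, 4, 1, 4, 2, 1, 2, 1], [], 11, false⟩) (lall (memL L) [1, 4, 1, 2, 1, 2, 4, 1, 4, 2, 1, 2, 1]) = true := by decide +kernel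

theorem rot4_13 : T.rot 4 [1, 2, 1, 2, 4, 1, 4, 2, 1, 2, 1, 4, 1] (sel (ones 72) ip4 13) = true := by decide +kernel

theorem rot4_13r : band (Rule.ok (2 * 4) EX RL ⟨4 :: [1, 2, 1, 2, 4, 1, 4, 2, 1, 2, 1, 4, 1], [6], 11, true⟩) (lall (memL L) [1, 2, 1, 2, 4, 1, 4, 2, 1, 2, 1, 4, 1]) = true := by decide +kernel

theorem rot4_14 : T.rot 4 [1, 4, 2, 4, 1, 4, 2, 4, 2, 3, 4, 2, 3, 4, 2, 3] (sel (ones 72) ip4 14) = true := by decide +kernel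

theorem rot4_14r : band (Rule.ok (2 * 4) EX RL ⟨4 :: [1, 4, 2, 4, 1, 4, 2, 4, 2, 3, 4, 2, 3, 4, 2, 3], [0, 6, 2, 6, 0, 6], 7, true⟩) (lall (memL L) [1, 4, 2, 4, 1, 4, 2, 4, 2, 3, 4, 2, 3, 4, 2, 3]) = true := by decide +kernel

theorem rot4_15 : T.rot 4 [3, 2, 4, 3, 2, 4, 3, 2, 4, 2, 4, 1, 4, 2, 4, 1] (sel (ones 72) ip4 15) = true := by decide +kernel

theorem rot4_15r : band (Rule.ok (2 * 4) EX RL ⟨4 :: [3, 2, 4, 3, 2, 4, 3, 2, 4, 2, 4, 1, 4, 2, 4, 1], [0, 6, 2, 6, 0], 7, false⟩) (lall (memL L) [3, 2, 4, 3, 2, 4, 3, 2, 4, 2, 4, 1, 4, 2, 4, 1]) = true := by decide +kernel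

theorem rot4_16 : T.rot 4 [2, 4, 1, 4, 2, 4, 1, 4, 3, 2, 4, 3, 2, 4, 3, 2] (sel (ones 72) ip4 16) = true := by decide +kernel

theorem rot4_16r : band (Rule.ok (2 * 4) EX RL ⟨4 :: [2, 4, 1, 4, 2, 4, 1, 4, 3, 2, 4, 3, 2, 4, 3, 2], [6, 2, 6], 7, false⟩) (lall (memL L) [2, 4, 1, 4, 2, 4, 1, 4, 3, 2, 4, 3, 2, 4, 3, 2]) = true := by decide +kernel

theorem rot4_17 : T.rot 4 [1, 2, 3, 2, 4, 3, 4, 2, 3, 2, 3, 4, 2, 4, 1, 3] (sel (ones 72) ip4 17) = true := by decide +kernel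

theorem rot4_17r : band (Rule.ok (2 * 4) EX RL ⟨4 :: [1, 2, 3, 2, 4, 3, 4, 2, 3, 2, 3, 4, 2, 4, 1, 3], [0, 4], 14, true⟩) (lall (memL L) [1, 2, 3, 2, 4, 3, 4, 2, 3, 2, 3, 4, 2, 4, 1, 3]) = true := by decide +kernel

theorem rot4_18 : T.rot 4 [2, 3, 2, 3, 4, 2, 4, 1, 3, 4, 1, 2, 3, 2, 4, 3] (sel (ones 72) ip4 18) = true := by decide +kernel

theorem rot4_18r : band (Rule.ok (2 * 4) EX RL ⟨4 :: [2, 3, 2, 3, 4, 2, 4, 1, 3, 4, 1, 2, 3, 2, 4, 3], [6, 2, 6, 4, 2, 4, 2, 6], 14, true⟩) (lall (memL L) [2, 3, 2, 3, 4, 2, 4, 1, 3, 4, 1, 2, 3, 2, 4, 3]) = true := by decide +kernel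

theorem rot4_19 : T.rot 4 [1, 3, 4, 1, 2, 3, 2, 4, 3, 4, 2, 3, 2, 3, 4, 2] (sel (ones 72) ip4 19) = true := by decide +kernel

theorem rot4_19r : band (Rule.ok (2 * 4) EX RL ⟨4 :: [1, 3, 4, 1, 2, 3, 2, 4, 3, 4, 2, 3, 2, 3, 4, 2], [6], 14, true⟩) (lall (memL L) [1, 3, 4, 1, 2, 3, 2, 4, 3, 4, 2, 3, 2, 3, 4, 2]) = true := by decide +kernel

theorem rot4_20 : T.rot 4 [2, 4, 3, 2, 3, 2, 4, 3, 4, 2, 3, 2, 1, 4, 3, 1] (sel (ones 72) ip4 20) = true := by decide +kernel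

theorem rot4_20r : band (Rule.ok (2 * 4) EX RL ⟨4 :: [2, 4, 3, 2, 3, 2, 4, 3, 4, 2, 3, 2, 1, 4, 3, 1], [], 14, false⟩) (lall (memL L) [2, 4, 3, 2, 3, 2, 4, 3, 4, 2, 3, 2, 1, 4, 3, 1]) = true := by decide +kernel

theorem rot4_21 : T.rot 4 [3, 2, 3, 2, 4, 3, 4, 2, 3, 2, 1, 4, 3, 1, 4, 2] (sel (ones 72) ip4 21) = true := by decide +kernel

theorem rot4_21r : band (Rule.ok (2 * 4) EX RL ⟨4 :: [3, 2, 3, 2, 4, 3, 4, 2, 3, 2, 1, 4, 3, 1, 4, 2], [6, 2], 14, false⟩) (lall (memL L) [3, 2, 3, 2, 4, 3, 4, 2, 3, 2, 1, 4, 3, 1, 4, 2]) = true := by decide +kernel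

theorem rot4_22 : T.rot 4 [3, 4, 2, 3, 2, 1, 4, 3, 1, 4, 2, 4, 3, 2, 3, 2] (sel (ones 72) ip4 22) = true := by decide +kernel

theorem rot4_22r : band (Rule.ok (2 * 4) EX RL ⟨4 :: [3, 4, 2, 3, 2, 1, 4, 3, 1, 4, 2, 4, 3, 2, 3, 2], [6, 2, 6, 4, 2, 4, 2], 14, false⟩) (lall (memL L) [3, 4, 2, 3, 2, 1, 4, 3, 1, 4, 2, 4, 3, 2, 3, 2]) = true := by decide +kernel

theorem rot4_23 : T.rot 4 [3, 1, 4, 2, 4, 3, 2, 3, 2, 4, 3, 4, 2, 3, 2, 1] (sel (ones 72) ip4 23) = true := by decide +kernel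

theorem rot4_23r : band (Rule.ok (2 * 4) EX RL ⟨4 :: [3, 1, 4, 2, 4, 3, 2, 3, 2, 4, 3, 4, 2, 3, 2, 1], [0, 4, 6], 14, false⟩) (lall (memL L) [3, 1, 4, 2, 4, 3, 2, 3, 2, 4, 3, 4, 2, 3, 2, 1]) = true := by decide +kernel

theorem rot4_24 : T.rot 4 [2, 3, 2, 3, 4, 2, 3, 2, 4, 2, 3, 2, 3, 4, 2, 3, 2] (sel (ones 72) ip4 24) = true := by decide +kernel

theorem rot4_24r : band (Rule.ok (2 * 4) EX RL ⟨4 :: [2, 3, 2, 3, 4, 2, 3, 2, 4, 2, 3, 2, 3, 4, 2, 3, 2], [6], 4, true⟩) (lall (memL L) [2, 3, 2, 3, 4, 2, 3, 2, 4, 2, 3, 2, 3, 4, 2, 3, 2]) = true := by decide +kernel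

theorem rot4_25 : T.rot 4 [1, 2, 4, 1, 2, 4, 1, 2, 4, 1, 2, 4, 1, 2, 4, 1, 2] (sel (ones 72) ip4 25) = true := by decide +kernel

theorem rot4_25r : band (Rule.ok (2 * 4) EX RL ⟨4 :: [1, 2, 4, 1, 2, 4, 1, 2, 4, 1, 2, 4, 1, 2, 4, 1, 2], [6], 13, true⟩) (lall (memL L) [1, 2, 4, 1, 2, 4, 1, 2, 4, 1, 2, 4, 1, 2, 4, 1, 2]) = true := by decide +kernel

theorem rot4_26 : T.rot 4 [2, 1, 4, 2, 1, 4, 2, 1, 4, 2, 1, 4, 2, 1, 4, 2, 1] (sel (ones 72) ip4 26) = true := by decide +kernel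

theorem rot4_26r : band (Rule.ok (2 * 4) EX RL ⟨4 :: [2, 1, 4, 2, 1, 4, 2, 1, 4, 2, 1, 4, 2, 1, 4, 2, 1], [], 13, false⟩) (lall (memL L) [2, 1, 4, 2, 1, 4, 2, 1, 4, 2, 1, 4, 2, 1, 4, 2, 1]) = true := by decide +kernel

theorem rot4_27 : T.rot 4 [2, 4, 1, 2, 4, 1, 4, 2, 4, 1, 2, 1, 4, 1, 2, 4, 2, 1, 4, 2, 4, 1] (sel (ones 72) ip4 27) = true := by decide +kernel

theorem rot4_27r : band (Rule.ok (2 * 4) EX RL ⟨4 :: [2, 4, 1, 2, 4, 1, 4, 2, 4, 1, 2, 1, 4, 1, 2, 4, 2, 1, 4, 2, 4, 1], [6, 2, 6, 0, 6, 2, 0, 6, 2, 6], 12, true⟩) (lall (memL L) [2, 4, 1, 2, 4, 1, 4, 2, 4, 1, 2, 1, 4, 1, 2, 4, 2, 1, 4, 2, 4, 1]) = true := by decide +kernel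

theorem rot4_28 : T.rot 4 [2, 4, 1, 4, 2, 1, 4, 2, 4, 1, 4, 2, 4, 1, 2, 4, 2, 1, 4, 1, 2, 1] (sel (ones 72) ip4 28) = true := by decide +kernel

theorem rot4_28r : band (Rule.ok (2 * 4) EX RL ⟨4 :: [2, 4, 1, 4, 2, 1, 4, 2, 4, 1, 4, 2, 4, 1, 2, 4, 2, 1, 4, 1, 2, 1], [], 12, false⟩) (lall (memL L) [2, 4, 1, 4, 2, 1, 4, 2, 4, 1, 4, 2, 4, 1, 2, 4, 2, 1, 4, 1, 2, 1]) = true := by decide +kernel

theorem rot4_29 : T.rot 4 [1, 2, 4, 2, 1, 4, 1, 2, 1, 4, 2, 4, 1, 4, 2, 1, 4, 2, 4, 1, 4, 2] (sel (ones 72) ip4 29) = true := by decide +kernel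

theorem rot4_29r : band (Rule.ok (2 * 4) EX RL ⟨4 :: [1, 2, 4, 2, 1, 4, 1, 2, 1, 4, 2, 4, 1, 4, 2, 1, 4, 2, 4, 1, 4, 2], [0, 2, 0, 6, 0, 2, 6, 2, 0, 6], 12, false⟩) (lall (memL L) [1, 2, 4, 2, 1, 4, 1, 2, 1, 4, 2, 4, 1, 4, 2, 1, 4, 2, 4, 1, 4, 2]) = true := by decide +kernel

theorem rot4_30 : T.rot 4 [2, 4, 2, 4, 3, 2, 4, 2, 4, 3, 2, 4, 2, 4, 2, 1, 2, 4, 2, 4, 1, 4, 2] (sel (ones 72) ip4 30) = true := by decide +kernel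

theorem rot4_30r : band (Rule.ok (2 * 4) EX RL ⟨4 :: [2, 4, 2, 4, 3, 2, 4, 2, 4, 3, 2, 4, 2, 4, 2, 1, 2, 4, 2, 4, 1, 4, 2], [0, 2, 6, 2, 6, 0, 6, 2], 16, true⟩) (lall (memL L) [2, 4, 2, 4, 3, 2, 4, 2, 4, 3, 2, 4, 2, 4, 2, 1, 2, 4, 2, 4, 1, 4, 2]) = true := by decide +kernel

theorem rot4_31 : T.rot 4 [3, 2, 4, 2, 4, 3, 2, 4, 2, 4, 2, 1, 2, 4, 2, 4, 1, 4, 2, 4, 2, 4, 2] (sel (ones 72) ip4 31) = true := by decide +kernel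

theorem rot4_31r : band (Rule.ok (2 * 4) EX RL ⟨4 :: [3, 2, 4, 2, 4, 3, 2, 4, 2, 4, 2, 1, 2, 4, 2, 4, 1, 4, 2, 4, 2, 4, 2], [2, 6, 2, 6, 2, 4, 6, 2, 6, 2, 4, 6], 16, true⟩) (lall (memL L) [3, 2, 4, 2, 4, 3, 2, 4, 2, 4, 2, 1, 2, 4, 2, 4, 1, 4, 2, 4, 2, 4, 2]) = true := by decide +kernel

theorem cov4 : T.cover 4 [(sel (ones 72) ip4 1), (sel (ones 72) ip4 2), (sel (ones 72) ip4 3), (sel (ones 72) ip4 4), (sel (ones 72) ip4 5), (sel (ones 72) ip4 6), (sel (ones 72) ip4 7), (sel (ones 72) ip4 8), (sel (ones 72) ip4 9), (sel (ones 72) ip4 10), (sel (ones 72) ip4 11), (sel (ones 72) ip4 12), (sel (ones 72) ip4 13), (sel (ones 72) ip4 14), (sel (ones 72) ip4 15), (sel (ones 72) ip4 16), (sel (ones 72) ip4 17), (sel (ones 72) ip4 18), (sel (ones 72) ip4 19), (sel (ones 72) ip4 20), (sel (ones 72) ip4 21), (sel (ones 72) ip4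 22), (sel (ones 72) ip4 23), (sel (ones 72) ip4 24), (sel (ones 72) ip4 25), (sel (ones 72) ip4 26), (sel (ones 72) ip4 27), (sel (ones 72) ip4 28), (sel (ones 72) ip4 29), (sel (ones 72) ip4 30), (sel (ones 72) ip4 31), 1] = true := by decide +kernel

theorem tl4 : T.treeLt 7 4 = true := by decide +kernel

theorem cov5 : T.cover 5 [1] = true := by decide +kernel

theorem tl5 : Nat.beq (T.let 5).tt 0 = true := by decide +kernel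

theorem rot6_1 : T.rot 6 [5] (sel (ones 72) ip6 1) = true := by decide +kernel

theorem rot6_1r : band (Rule.ok (2 * 4) EX RL ⟨6 :: [5], [], 18, false⟩) (lall (memL L) [5]) = true := by decide +kernel

theorem cov6 : T.cover 6 [(sel (ones 72) ip6 1)] = true := by decide +kernel

theorem tl6 : Nat.beq (T.let 6).tt 0 = true := by decide +kernel

theorem cov7 : T.cover 7 [1] = true := by decide +kernel

theorem tl7 : Nat.beq (T.let 7).tt 0 = true := by decide +kernel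

theorem rot8_1 : T.rot 8 [7] (sel (ones 72) ip8 1) = true := by decide +kernel

theorem rot8_1r : band (Rule.ok (2 * 4) EX RL ⟨8 :: [7], [], 18, false⟩) (lall (memL L) [7]) = true := by decide +kernel

theorem cov8 : T.cover 8 [(sel (ones 72) ip8 1)] = true := by decide +kernel

theorem tl8 : Nat.beq (T.let 8).tt 0 = true := by decide +kernel

theorem cov9 : T.cover 9 [1] = true := by decide +kernel

theorem tl9 : Nat.beq (T.let 9).tt 0 = true := by decide +kernel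

theorem rot10_1 : T.rot 10 [9] (sel (ones 72) ip10 1) = true := by decide +kernel

theorem rot10_1r : band (Rule.ok (2 * 4) EX RL ⟨10 :: [9], [], 18, false⟩) (lall (memL L) [9]) = true := by decide +kernel

theorem rot10_2 : T.rot 10 [2, 4, 3, 4, 2] (sel (ones 72) ip10 2) = true := by decide +kernel

theorem rot10_2r : band (Rule.ok (2 * 4) EX RL ⟨10 :: [2, 4, 3, 4, 2], [], 18, false⟩) (lall (memL L) [2, 4, 3, 4, 2]) = true := by decide +kernel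

theorem rot10_3 : T.rot 10 [4, 3, 1, 4, 1, 4, 1, 3, 4] (sel (ones 72) ip10 3) = true := by decide +kernel

theorem rot10_3r : band (Rule.ok (2 * 4) EX RL ⟨10 :: [4, 3, 1, 4, 1, 4, 1, 3, 4], [6], 17, false⟩) (lall (memL L) [4, 3, 1, 4, 1, 4, 1, 3, 4]) = true := by decide +kernel

theorem cov10 : T.cover 10 [(sel (ones 72) ip10 1), (sel (ones 72) ip10 2), (sel (ones 72) ip10 3)] = true := by decide +kernel

theorem tl10 : Nat.beq (T.let 10).tt 0 = true := by decide +kernel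

theorem cov11 : T.cover 11 [1] = true := by decide +kernel

theorem tl11 : Nat.beq (T.let 11).tt 0 = true := by decide +kernel

theorem rot12_1 : T.rot 12 [11] (sel (ones 72) ip12 1) = true := by decide +kernel

theorem rot12_1r : band (Rule.ok (2 * 4) EX RL ⟨12 :: [11], [], 18, false⟩) (lall (memL L) [11]) = true := by decide +kernel

theorem cov12 : T.cover 12 [(sel (ones 72) ip12 1)] = true := by decide +kernel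

theorem tl12 : Nat.beq (T.let 12).tt 0 = true := by decide +kernel

end Cfsg.Agent.Spor.C3VM
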