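import Cfsg.Agent.Spor.Chk

set_option autoImplicit false
set_option maxRecDepth 100000000
set_option Elab.async false
noncomputable section

namespace Cfsg.Agent.Spor.C3VM

def m0_0 : Nat := nat_lit 0x8100000000c7
def m0_1 : Nat := nat_lit 0x28000000008943404b
def m0_2 : Nat := nat_lit 0x10c10000610b
def m0_3 : Nat := nat_lit 0x2100000000000f002c0011003d
def m0_4 : Nat := nat_lit 0x4040401090d05050c
def m0_5 : Nat := nat_lit 0x2001000000000331110212103203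
def m0_6 : Nat := nat_lit 0x4000000410504154110450440
def m0_7 : Nat := nat_lit 0x1000000000000101010100000
def m0_8 : Nat := nat_lit 0x40a06010802050108
def m0_9 : Nat := nat_lit 0x210000000000a40012003d0060
def m0_10 : Nat := nat_lit 0x502600006703
def m0_11 : Nat := nat_lit 0x280000000001262403
def m0_12 : Nat := nat_lit 0x8100000000c7
def n0 : Net := Net.cons 64 m0_0 (Net.cons 32 m0_1 (Net.cons 16 m0_2 (Net.cons 8 m0_3 (Net.cons 4 m0_4 (Net.cons 2 m0_5 (Net.cons 1 m0_6 (Net.cons 2 m0_7 (Net.cons 4 m0_8 (Net.cons 8 m0_9 (Net.cons 16 m0_10 (Net.cons 32 m0_11 (Net.cons 64 m0_12 (Net.nil)))))))))))))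

def m1_0 : Nat := nat_lit 0x17
def m1_1 : Nat := nat_lit 0x342b8c2d
def m1_2 : Nat := nat_lit 0x31a6000003e2
def m1_3 : Nat := nat_lit 0x400e800200070
def m1_4 : Nat := nat_lit 0x2060f060604060b0b
def m1_5 : Nat := nat_lit 0x33100301112110122
def m1_6 : Nat := nat_lit 0x500411014140440000
def m1_7 : Nat := nat_lit 0x100011010110000
def m1_8 : Nat := nat_lit 0x20600060600000100
def m1_9 : Nat := nat_lit 0x4008100200030
def m1_10 : Nat := nat_lit 0x31a6000002e2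
def m1_11 : Nat := nat_lit 0x342b8c2d
def m1_12 : Nat := nat_lit 0x17
def n1 : Net := Net.cons 64 m1_0 (Net.cons 32 m1_1 (Net.cons 16 m1_2 (Net.cons 8 m1_3 (Net.cons 4 m1_4 (Net.cons 2 m1_5 (Net.cons 1 m1_6 (Net.cons 2 m1_7 (Net.cons 4 m1_8 (Net.cons 8 m1_9 (Net.cons 16 m1_10 (Net.cons 32 m1_11 (Net.cons 64 m1_12 (Net.nil)))))))))))))

def m2_0 : Nat := nat_lit 0x4440010000000000
def m2_1 : Nat := nat_lit 0x17000000004a971000
def m2_2 : Nat := nat_lit 0x1600000000000050960000c4e8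
def m2_3 : Nat := nat_lit 0x60001000000000018008700480014
def m2_4 : Nat := nat_lit 0x200000000000008000501090e030804
def m2_5 : Nat := nat_lit 0x10100000000000101130201100300131
def m2_6 : Nat := nat_lit 0x10000000000000104451041044041004
def m2_7 : Nat := nat_lit 0x10000000000000101100001010000000
def m2_8 : Nat := nat_lit 0x2000000000000000005000101000006
def m2_9 : Nat := nat_lit 0x20000000000000018008500190014
def m2_10 : Nat := nat_lit 0x1600000000000010960000c403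
def m2_11 : Nat := nat_lit 0x17000000004a971000
def m2_12 : Nat := nat_lit 0x4440010000000000
def n2 : Net := Net.cons 64 m2_0 (Net.cons 32 m2_1 (Net.cons 16 m2_2 (Net.cons 8 m2_3 (Net.cons 4 m2_4 (Net.cons 2 m2_5 (Net.cons 1 m2_6 (Net.cons 2 m2_7 (Net.cons 4 m2_8 (Net.cons 8 m2_9 (Net.cons 16 m2_10 (Net.cons 32 m2_11 (Net.cons 64 m2_12 (Net.nil)))))))))))))

def m3_0 : Nat := nat_lit 0x420008000000001
def m3_1 : Nat := nat_lit 0x5400000000a3c09188
def m3_2 : Nat := nat_lit 0x300000000000004e530000ca2a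
def m3_3 : Nat := nat_lit 0x4000000000000004200c4005c0061
def m3_4 : Nat := nat_lit 0x1000800000002060d0304090a0404
def m3_5 : Nat := nat_lit 0x10010000000002202032122000110
def m3_6 : Nat := nat_lit 0x14000000004441500114144114
def m3_7 : Nat := nat_lit 0x10000000000001000010102000
def m3_8 : Nat := nat_lit 0x10008000000000000030503080402
def m3_9 : Nat := nat_lit 0x4000000000000000800c4002d0052
def m3_10 : Nat := nat_lit 0x300000000000000e4000003155
def m3_11 : Nat := nat_lit 0x540000000003c09588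
def m3_12 : Nat := nat_lit 0x420008000000001
def n3 : Net := Net.cons 64 m3_0 (Net.cons 32 m3_1 (Net.cons 16 m3_2 (Net.cons 8 m3_3 (Net.cons 4 m3_4 (Net.cons 2 m3_5 (Net.cons 1 m3_6 (Net.cons 2 m3_7 (Net.cons 4 m3_8 (Net.cons 8 m3_9 (Net.cons 16 m3_10 (Net.cons 32 m3_11 (Net.cons 64 m3_12 (Net.nil)))))))))))))

def m4_0 : Nat := nat_lit 0x4040010400001001
def m4_1 : Nat := nat_lit 0x5400000000bca0e0d2
def m4_2 : Nat := nat_lit 0x400000000000009d400000281e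
def m4_3 : Nat := nat_lit 0x400001000000020018003200c40082
def m4_4 : Nat := nat_lit 0x5000001020a0f0a0809020a04
def m4_5 : Nat := nat_lit 0x12200100021012200
def m4_6 : Nat := nat_lit 0x1010055011001004141
def m4_7 : Nat := nat_lit 0x10000000001000022
def m4_8 : Nat := nat_lit 0x102000002000800040a
def m4_9 : Nat := nat_lit 0x1000000020018003000040045
def m4_10 : Nat := nat_lit 0x4000000000000099400000000e
def m4_11 : Nat := nat_lit 0x5400000000bca0e0d2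
def m4_12 : Nat := nat_lit 0x4040010400001001
def n4 : Net := Net.cons 64 m4_0 (Net.cons 32 m4_1 (Net.cons 16 m4_2 (Net.cons 8 m4_3 (Net.cons 4 m4_4 (Net.cons 2 m4_5 (Net.cons 1 m4_6 (Net.cons 2 m4_7 (Net.cons 4 m4_8 (Net.cons 8 m4_9 (Net.cons 16 m4_10 (Net.cons 32 m4_11 (Net.cons 64 m4_12 (Net.nil)))))))))))))

def m5_0 : Nat := nat_lit 0x8000000801000ca
def m5_1 : Nat := nat_lit 0x400000000d6ec8c28
def m5_2 : Nat := nat_lit 0x400000030000011e0000057e2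
def m5_3 : Nat := nat_lit 0x400000020000000a600ae008c007a
def m5_4 : Nat := nat_lit 0x301030202040c020a
def m5_5 : Nat := nat_lit 0x200000302110011023211110
def m5_6 : Nat := nat_lit 0x4000000000000504004544451444444
def m5_7 : Nat := nat_lit 0x1000011200001010
def m5_8 : Nat := nat_lit 0x300050c0a06020104
def m5_9 : Nat := nat_lit 0x400000020000000c1002800630048
def m5_10 : Nat := nat_lit 0x4000000200000634a00004762
def m5_11 : Nat := nat_lit 0x400000000b10c1036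
def m5_12 : Nat := nat_lit 0x8000000801000ca
def n5 : Net := Net.cons 64 m5_0 (Net.cons 32 m5_1 (Net.cons 16 m5_2 (Net.cons 8 m5_3 (Net.cons 4 m5_4 (Net.cons 2 m5_5 (Net.cons 1 m5_6 (Net.cons 2 m5_7 (Net.cons 4 m5_8 (Net.cons 8 m5_9 (Net.cons 16 m5_10 (Net.cons 32 m5_11 (Net.cons 64 m5_12 (Net.nil)))))))))))))

def m6_0 : Nat := nat_lit 0x200000100800209
def m6_1 : Nat := nat_lit 0x50000000042388a07
def m6_2 : Nat := nat_lit 0x400000010000037c10000040f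
def m6_3 : Nat := nat_lit 0x200000000000200c60055006e00a0
def m6_4 : Nat := nat_lit 0x10a0303050e0c0f08
def m6_5 : Nat := nat_lit 0x10000001000301110000222000233
def m6_6 : Nat := nat_lit 0x10000004000504045441010104405
def m6_7 : Nat := nat_lit 0x10000001000001010000000202000
def m6_8 : Nat := nat_lit 0x10803000100080008
def m6_9 : Nat := nat_lit 0x200000000000000860055001200a0
def m6_10 : Nat := nat_lit 0x400000010000037410000040f
def m6_11 : Nat := nat_lit 0x50000000042388a07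
def m6_12 : Nat := nat_lit 0x200000100800209
def n6 : Net := Net.cons 64 m6_0 (Net.cons 32 m6_1 (Net.cons 16 m6_2 (Net.cons 8 m6_3 (Net.cons 4 m6_4 (Net.cons 2 m6_5 (Net.cons 1 m6_6 (Net.cons 2 m6_7 (Net.cons 4 m6_8 (Net.cons 8 m6_9 (Net.cons 16 m6_10 (Net.cons 32 m6_11 (Net.cons 64 m6_12 (Net.nil)))))))))))))

def m7_0 : Nat := nat_lit 0x713088878d513b55
def m7_1 : Nat := nat_lit 0x455090e80000000080c4c11a
def m7_2 : Nat := nat_lit 0x21c4000020920000d040000060fc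
def m7_3 : Nat := nat_lit 0x340030002200140010003200560004
def m7_4 : Nat := nat_lit 0x404000702010a000003010204000002
def m7_5 : Nat := nat_lit 0x100102010020000201000011001000
def m7_6 : Nat := nat_lit 0x10400405441004000444010041401041
def m7_7 : Nat := nat_lit 0x10100100212001000020010001201002
def m7_8 : Nat := nat_lit 0x40000040a0003000c0201000002000a
def m7_9 : Nat := nat_lit 0x240018002200140010001000040041
def m7_10 : Nat := nat_lit 0x31a40000a9820000d24000006070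
def m7_11 : Nat := nat_lit 0x444090ee00000000804e811a
def m7_12 : Nat := nat_lit 0x713088878d513b25
def n7 : Net := Net.cons 64 m7_0 (Net.cons 32 m7_1 (Net.cons 16 m7_2 (Net.cons 8 m7_3 (Net.cons 4 m7_4 (Net.cons 2 m7_5 (Net.cons 1 m7_6 (Net.cons 2 m7_7 (Net.cons 4 m7_8 (Net.cons 8 m7_9 (Net.cons 16 m7_10 (Net.cons 32 m7_11 (Net.cons 64 m7_12 (Net.nil)))))))))))))

def cl1 : Nat := nat_lit 0xffffffffffffffffff
def tt1 : Nat := nat_lit 0xea0808244044809482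
def tm1_0 : Nat := nat_lit 0xfad86c7c665c82f482
def tm1_1 : Nat := nat_lit 0x1541c452312a186040
def tm1_2 : Nat := nat_lit 0x802480000
def tm1_3 : Nat := nat_lit 0x5f7b44a3e10426000
def ip1_0 : Nat := nat_lit 0xef393c24686ec2b4c2
def ip1_1 : Nat := nat_lit 0x196b40a10000a0040
def ip1_2 : Nat := nat_lit 0x154590402738506000
def ip1_3 : Nat := nat_lit 0x661450040a4a0000
def ip1_4 : Nat := nat_lit 0x9060080800006000
def ip1 : List Nat := [ip1_0, ip1_1, ip1_2, ip1_3, ip1_4]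
def l1 : Let := ⟨0, false, cl1, tt1, [tm1_0, tm1_1, tm1_2, tm1_3]⟩

def cl2 : Nat := nat_lit 0xffffffffffffffffff
def tt2 : Nat := nat_lit 0x111562401919150814
def tm2_0 : Nat := nat_lit 0x151d7f713b19574814
def tm2_1 : Nat := nat_lit 0xc2aa94ab82000a0000
def tm2_2 : Nat := nat_lit 0x280010002200404000
def tm2_3 : Nat := nat_lit 0xeeea8d9b8400080000
def ip2_0 : Nat := nat_lit 0x1f57e7613d191f4814
def ip2_1 : Nat := nat_lit 0xce000cb28600000000
def ip2_2 : Nat := nat_lit 0x26c890320200004000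
def ip2_3 : Nat := nat_lit 0x6219218600480000
def ip2_4 : Nat := nat_lit 0x48a04992000424000
def ip2 : List Nat := [ip2_0, ip2_1, ip2_2, ip2_3, ip2_4]
def l2 : Let := ⟨1, false, cl2, tt2, [tm2_0, tm2_1, tm2_2, tm2_3]⟩

def cl3 : Nat := nat_lit 0xffffffffffffffffff
def tt3 : Nat := nat_lit 0x82110a8280282128
def tm3_0 : Nat := nat_lit 0x63e39bdbeac6282128
def tm3_1 : Nat := nat_lit 0x7505eaa56c1290c600
def tm3_2 : Nat := nat_lit 0x882824000408000000
def tm3_3 : Nat := nat_lit 0xff5dced56954104000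
def ip3_0 : Nat := nat_lit 0xc79eb38aa3c8286328
def ip3_1 : Nat := nat_lit 0x1b096af5601c908600
def ip3_2 : Nat := nat_lit 0x123ca4d00952000000
def ip3_3 : Nat := nat_lit 0x1540c6910404004000
def ip3_4 : Nat := nat_lit 0xe74400416840000000
def ip3 : List Nat := [ip3_0, ip3_1, ip3_2, ip3_3, ip3_4]
def l3 : Let := ⟨2, false, cl3, tt3, [tm3_0, tm3_1, tm3_2, tm3_3]⟩

def cl4 : Nat := nat_lit 0xffffffffffffffffff
def tt4 : Nat := nat_lit 0x46084912422424240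
def tm4_0 : Nat := nat_lit 0xff67e7d13c634e4240
def tm4_1 : Nat := nat_lit 0xab834b4e5859002808
def tm4_2 : Nat := nat_lit 0x400b202a00010c0000
def tm4_3 : Nat := nat_lit 0xbb9c5b645950002000
def ip4_0 : Nat := nat_lit 0xf6eecdb3c724a6a40
def ip4_1 : Nat := nat_lit 0x900e33644150080808
def ip4_2 : Nat := nat_lit 0xe38a006e0918080000
def ip4_3 : Nat := nat_lit 0xbb9d4a605040040000
def ip4_4 : Nat := nat_lit 0xc1907b405951002000
def ip4 : List Nat := [ip4_0, ip4_1, ip4_2, ip4_3, ip4_4]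
def l4 : Let := ⟨3, false, cl4, tt4, [tm4_0, tm4_1, tm4_2, tm4_3]⟩

def ip5 : List Nat := []
def l5 : Let := ⟨4, false, 0x1, 0x0, [0x0, 0x0, 0x0, 0x0]⟩

def ip6 : List Nat := [0x1]
def l6 : Let := ⟨4, true, 0x1, 0x0, [0x1, 0x0, 0x0, 0x0]⟩

def ip7 : List Nat := []
def l7 : Let := ⟨5, false, 0x1, 0x0, [0x0, 0x0, 0x0, 0x0]⟩

def ip8 : List Nat := [0x1]
def l8 : Let := ⟨5, true, 0x1, 0x0, [0x1, 0x0, 0x0, 0x0]⟩

def ip9 : List Nat := []
def l9 : Let := ⟨6, false, 0x1, 0x0, [0x0, 0x0, 0x0, 0x0]⟩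

def cl10 : Nat := nat_lit 0x100002280061019
def tm10_0 : Nat := nat_lit 0x280001009
def tm10_1 : Nat := nat_lit 0x100002000000018
def tm10_2 : Nat := nat_lit 0x100002000060010
def tm10_3 : Nat := nat_lit 0x280001000
def ip10_1 : Nat := nat_lit 0x100002280061018
def ip10 : List Nat := [0x9, ip10_1]
def l10 : Let := ⟨6, true, cl10, 0x0, [tm10_0, tm10_1, tm10_2, tm10_3]⟩

def ip11 : List Nat := []
def l11 : Let := ⟨7, false, 0x1, 0x0, [0x0, 0x0, 0x0, 0x0]⟩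

def ip12 : List Nat := [0x1]
def l12 : Let := ⟨7, true, 0x1, 0x0, [0x1, 0x0, 0x0, 0x0]⟩

def NT : List Net := [n0, n1, n2, n3, n4, n5, n6, n7]
def LT : List Let := [⟨0, false, 0, 0, []⟩, l1, l2, l3, l4, l5, l6, l7, l8, l9, l10, l11, l12]
def T : Tab := ⟨NT, LT⟩
def EX : List (List Nat) := [[], [0], [2], [4], [6], [4, 6, 4], [4, 6, 4], [0, 6, 0, 6, 0], [0, 6, 0, 6, 0], [2, 6, 4, 6, 2], [2, 6, 4, 6, 2], [2, 6, 2, 6, 2, 4], [4, 2, 6, 2, 6, 2]]
def RL : List (List Nat) := [[2, 4, 2, 4, 2, 4, 2, 4, 2, 4, 2, 4], [2, 6, 2, 6, 2, 6, 2, 6, 2, 6, 2, 6], [4, 6, 4, 6, 4, 6, 4, 6], [6, 2, 6, 2, 4, 2, 4, 6, 4, 6, 2, 4, 6, 4, 2, 4, 2, 4, 2], [6, 2, 4, 2, 6, 4, 2, 4, 2, 6, 2, 4, 2, 6, 4, 2, 4, 2], [0, 4, 0, 4, 0, 4], [0, 2, 0, 6, 2, 4, 6, 2, 6, 4, 2, 6, 2, 6, 4, 2, 6, 4], [0, 6, 2, 6, 0, 6, 4, 2, 6, 4, 2, 6, 4, 2, 6, 2, 6], [0, 4, 6, 2, 6, 4, 0, 4, 2, 6, 2, 6, 2, 4, 6, 2, 6, 2, 4, 6, 2], [0, 2, 0, 2, 0, 2, 0, 2], [0,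 6, 0, 6, 0, 6, 0, 6, 0, 6, 0, 6], [6, 0, 6, 0, 2, 0, 2, 6, 0, 6, 2, 0, 2, 0], [6, 2, 6, 0, 6, 2, 0, 6, 2, 6, 0, 6, 2, 6, 0, 2, 6, 2, 0, 6, 0, 2, 0], [6, 2, 0, 6, 2, 0, 6, 2, 0, 6, 2, 0, 6, 2, 0, 6, 2, 0], [6, 2, 6, 4, 2, 4, 2, 6, 4, 6, 2, 4, 2, 0, 6, 4, 0], [4, 2, 4, 6, 4, 6, 2, 6, 4, 6, 2, 6, 2, 4, 0, 4, 2, 4, 0], [2, 6, 2, 6, 2, 4, 6, 2, 6, 2, 4, 6, 2, 6, 2, 6, 2, 6, 0, 6, 2, 6, 2, 0], [6, 2, 6, 4, 6, 2, 6, 4, 0, 6, 0, 6, 0, 4]]
def XL : List (List Nat) := []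
def BW : List (List Nat) := [[6], [4, 6, 4], [0, 6, 0, 6, 0], [2, 6, 4, 6, 2], [2, 6, 2, 6, 2, 4]]
def IV : Nat := 0xb0c090a070805060403020100
def L : List Nat := [1, 2, 3, 4, 5, 6, 7, 8, 9, 10, 11, 12]
def gs : List Nat := [1, 2, 3, 4]
def base : List Nat := [4, 5, 7, 9, 11]

end Cfsg.Agent.Spor.C3VM
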